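import Cfsg.Agent.Lib.FischerPair.Main
import Cfsg.Agent.Lib.FischerCent.Levels

set_option autoImplicit false

/-! The link groups in type M(23). -/

namespace CfsgLib.FischerPair

open Subgroup
open CfsgLib.ThreeTrans (link mul_self inv_eq conj_self_of_commute)
open CfsgLib.FischerType
open scoped commutatorElement

variable {G : Type*} [Group G] [Finite G] {D : Set G}

/-- In type M(23) some link group is perfect, with simple quotient by its centre of type M(22). -/
theorem perfect_link_of_typeM23 (S : Setting D) (h : Cfsg.IsOfTypeM23 G D) :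
    ∃ d ∈ D, (link D d).Nonempty ∧ commutator ↥(closure (link D d)) = ⊤ ∧
      IsSimpleGroup (Quot D d) ∧ Setting (img D d) ∧ Cfsg.IsOfTypeM22 (Quot D d) (img D d) := by
  obtain ⟨d, hd, hpair, SX, hX⟩ := CfsgLib.FischerCent.imgData_of_typeM23 S h
  have hl := (S.good_of_typeM23 h).lines
  obtain ⟨v₁, hv₁, v₂, hv₂, hv⟩ := id hpair
  have hpt := S.pairTwinFree_of_img hd hv₁ hpair (SX.linkTwinFree_of_typeM22 hX _ (toImg_mem hv₁))
  have hP : ∀ a ∈ D, ∀ b ∈ link D a, PairTwinFree D a b :=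
    fun a ha b hb => S.pairTwinFree_all hd hv₁ hpt ha hb
  have hs := CfsgLib.FischerUnique.isSimpleGroup_of_typeM22 SX hX
  refine ⟨d, hd, ⟨v₁, hv₁⟩, ?_, hs, SX, hX⟩
  obtain ⟨u, hu, p, q, r, a, b, c, hm, he⟩ := exists_six S hl hP hd SX hX
  have hset := S.cls.1
  have hn := S.noCentral hd hpair
  set M := closure (link D d) with hM
  have mM : ∀ {x}, x ∈ link D d → x ∈ M := fun hx => subset_closure hx
  have hcmem : ∀ x y : ↥M, ⁅x, y⁆ ∈ commutator ↥M := fun x y => by
    rw [_root_.commutator_def]; exact commutator_mem_commutator (mem_top _) (mem_top _)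
  have hclass : ∀ {w v} (hw : w ∈ link D d) (hv : v ∈ link D d),
      (QuotientGroup.mk (⟨v, mM hv⟩ : ↥M) : ↥M ⧸ commutator ↥M) =
        QuotientGroup.mk (⟨w, mM hw⟩ : ↥M) := by
    intro w v hw hv
    obtain ⟨k', hk'⟩ := CfsgLib.ThreeTransp.class_conj SX.cls (toImg_mem hw) (toImg_mem hv)
    obtain ⟨k, rfl⟩ := QuotientGroup.mk_surjective k'
    have hkw : (k : G) * w * (k : G)⁻¹ ∈ link D d :=
      CfsgLib.ThreeTrans.linkClass_subset_link S.cls hw ⟨k, k.2, rfl⟩
    have hkv : (k : G) * w * (k : G)⁻¹ = v :=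
      eq_of_toImg hset hn hkw hv ((conj_mk hw k hkw).trans hk')
    rw [QuotientGroup.eq]
    have e1 : (⟨v, mM hv⟩ : ↥M)⁻¹ * ⟨w, mM hw⟩ = ⁅k, (⟨w, mM hw⟩ : ↥M)⁆ := by
      refine Subtype.ext ?_
      simp only [commutatorElement_def, Subgroup.coe_mul, Subgroup.coe_inv]
      rw [← hkv]
      simp only [mul_inv_rev, inv_inv, inv_eq hset hw.1, mul_assoc]
    rw [e1]
    exact hcmem _ _
  have hp : p ∈ link D d := (hm p (by simp)).1
  have hdM : d ∈ M := by
    rw [he]
    exact mul_mem (mul_mem (mul_mem (mul_mem (mul_mem (mM hp) (mM (hm q (by simp)).1))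
      (mM (hm r (by simp)).1)) (mM (hm c (by simp)).1)) (mM (hm b (by simp)).1))
      (mM (hm a (by simp)).1)
  have hdK : (⟨d, hdM⟩ : ↥M) ∈ commutator ↥M := by
    rw [show (⟨d, hdM⟩ : ↥M) = ⟨p, mM hp⟩ * ⟨q, mM (hm q (by simp)).1⟩ *
      ⟨r, mM (hm r (by simp)).1⟩ * ⟨c, mM (hm c (by simp)).1⟩ * ⟨b, mM (hm b (by simp)).1⟩ *
      ⟨a, mM (hm a (by simp)).1⟩ from Subtype.ext he, ← QuotientGroup.eq_one_iff]
    simp only [QuotientGroup.mk_mul]
    rw [hclass hp (hm q (by simp)).1, hclass hp (hm r (by simp)).1, hclass hp (hm c (by simp)).1,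
      hclass hp (hm b (by simp)).1, hclass hp (hm a (by simp)).1]
    have h2 : (QuotientGroup.mk (⟨p, mM hp⟩ : ↥M) : ↥M ⧸ commutator ↥M) *
        QuotientGroup.mk (⟨p, mM hp⟩ : ↥M) = 1 := by
      rw [← QuotientGroup.mk_mul, ← QuotientGroup.mk_one]
      exact congrArg _ (Subtype.ext (mul_self hset hp.1))
    simp only [h2, one_mul]
  haveI := hs
  have hperfQ : commutator (Quot D d) = ⊤ := by
    rw [_root_.commutator_def]
    rcases IsSimpleGroup.eq_bot_or_eq_top_of_normal ⁅(⊤ : Subgroup (Quot D d)), (⊤ : Subgroup (Quot D d))⁆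
      (commutator_normal _ _) with h1 | h1
    · exfalso
      refine hv (commute_of_toImg hset hv₁ hv₂ ?_)
      have := commutator_mem_commutator (mem_top (toImg D d hv₁)) (mem_top (toImg D d hv₂))
      rw [h1, mem_bot, commutatorElement_eq_one_iff_commute] at this
      exact this
    · exact h1
  refine top_le_iff.1 fun x _ => ?_
  obtain ⟨l, hl', hle⟩ : (QuotientGroup.mk' (center ↥M)) x ∈
      (commutator ↥M).map (QuotientGroup.mk' (center ↥M)) := by
    rw [_root_.commutator_def, Subgroup.map_commutator,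
      Subgroup.map_top_of_surjective _ (QuotientGroup.mk'_surjective _), ← _root_.commutator_def, hperfQ]
    exact mem_top _
  have hz : l⁻¹ * x ∈ center ↥M := (QuotientGroup.eq (a := l) (b := x)).1 hle
  have hzK : l⁻¹ * x ∈ commutator ↥M := by
    rcases CfsgLib.FischerUnique.center_link_le S hl hd hv₁ hz with h1 | h1
    · rw [show l⁻¹ * x = 1 from Subtype.ext h1]; exact one_mem _
    · rw [show l⁻¹ * x = ⟨d, hdM⟩ from Subtype.ext h1]; exact hdK
  simpa using mul_mem hl' hzK

/-- In type M(23) every link group is quasisimple with centre generated by its member, and a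
quotient of type M(22). -/
theorem link_group_of_typeM23 (S : Setting D) (h : Cfsg.IsOfTypeM23 G D) {q : G} (hq : q ∈ D) :
    (link D q).Nonempty ∧ q ∈ closure (link D q) ∧ Cfsg.IsQuasisimple ↥(closure (link D q)) ∧
      (∀ z ∈ center ↥(closure (link D q)), (z : G) = 1 ∨ (z : G) = q) ∧
      ∃ d ∈ D, Setting (img D d) ∧ Cfsg.IsOfTypeM22 (Quot D d) (img D d) ∧
        Nonempty (↥(closure (link D q)) ⧸ center ↥(closure (link D q)) ≃* Quot D d) := by
  obtain ⟨d, hd, ⟨v, hv⟩, hperf, hs, SX, hX⟩ := perfect_link_of_typeM23 S h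
  obtain ⟨g, hg⟩ := CfsgLib.ThreeTransp.class_conj S.cls hd hq
  have hne : (link D q).Nonempty := ⟨g * v * g⁻¹, hg ▸ link_conj_mem S.cls g hv⟩
  obtain ⟨w, hw⟩ := hne
  obtain ⟨e⟩ := nonempty_link_equiv S hd hq
  obtain ⟨e'⟩ := nonempty_quot_center_congr e
  have hperf' : commutator ↥(closure (link D q)) = ⊤ := by
    rw [_root_.commutator_def] at hperf ⊢
    rw [← Subgroup.map_top_of_surjective e.toMonoidHom e.surjective, ← Subgroup.map_commutator,
      hperf]
  have hs' : IsSimpleGroup (↥(closure (link D q)) ⧸ center ↥(closure (link D q))) := by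
    haveI := hs
    haveI := e'.symm.toEquiv.nontrivial
    exact IsSimpleGroup.isSimpleGroup_of_surjective e'.toMonoidHom e'.surjective
  exact ⟨⟨w, hw⟩, CfsgLib.FischerCent.mem_closure_link_of_typeM23 S h hq, ⟨⟨hperf'⟩, hs'⟩,
    fun z hz => CfsgLib.FischerUnique.center_link_le S (S.good_of_typeM23 h).lines hq hw hz,
    d, hd, SX, hX, ⟨e'.symm⟩⟩

end CfsgLib.FischerPair
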