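import Cfsg.Agent.Lib.FischerPair.LinkM23
import Cfsg.Agent.Lib.Components.Quasisimple
import Cfsg.Agent.Lib.Components.Layer
import Cfsg.Agent.Lib.Components.GenFitting

set_option autoImplicit false

/-! The centraliser of a commuting pair and of its product in the derived group, type M(24). -/

namespace CfsgLib.FischerPair

open Subgroup
open CfsgLib.ThreeTrans (link mul_self inv_eq conj_self_of_commute)
open CfsgLib.FischerType
open scoped commutatorElement

variable {G : Type*} [Group G] [Finite G] {D : Set G}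

omit [Finite G] in
/-- The derived group and one member fill the group. -/
theorem mem_or_mul_mem_commutator (hc : Cfsg.IsThreeTranspositionClass D) {d : G} (hd : d ∈ D)
    (x : G) : x ∈ commutator G ∨ x * d ∈ commutator G := by
  have hdd : d * d = 1 := mul_self hc.1 hd
  have hgen : closure D = ⊤ := (CfsgLib.ThreeTransp.class_to_group hc).2.2
  let π : G →* G ⧸ commutator G := QuotientGroup.mk' _
  have hπ : ∀ y ∈ D, π y = π d := by
    intro y hy
    obtain ⟨g, rfl⟩ := CfsgLib.ThreeTransp.class_conj hc hd hy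
    have h1 : g * d * g⁻¹ * d⁻¹ ∈ commutator G := by
      rw [_root_.commutator_def]
      exact commutator_mem_commutator (mem_top g) (mem_top d)
    rw [← QuotientGroup.eq_one_iff] at h1
    change π (g * d * g⁻¹ * d⁻¹) = 1 at h1
    rw [map_mul, map_inv] at h1
    exact mul_inv_eq_one.1 h1
  have hall : π x = 1 ∨ π x = π d := by
    have hx : x ∈ closure D := hgen ▸ mem_top x
    refine closure_induction (p := fun y _ => π y = 1 ∨ π y = π d) ?_ ?_ ?_ ?_ hx
    · exact fun y hy => Or.inr (hπ y hy)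
    · exact Or.inl (map_one _)
    · rintro a b - - (ha | ha) (hb | hb)
      · exact Or.inl (by rw [map_mul, ha, hb, one_mul])
      · exact Or.inr (by rw [map_mul, ha, hb, one_mul])
      · exact Or.inr (by rw [map_mul, ha, hb, mul_one])
      · exact Or.inl (by rw [map_mul, ha, hb, ← map_mul, hdd, map_one])
    · rintro a - (ha | ha)
      · exact Or.inl (by rw [map_inv, ha, inv_one])
      · exact Or.inr (by rw [map_inv, ha, ← map_inv, inv_eq hc.1 hd])
  rcases hall with h | h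
  · exact Or.inl ((QuotientGroup.eq_one_iff x).1 h)
  · refine Or.inr ((QuotientGroup.eq_one_iff (x * d)).1 ?_)
    show π (x * d) = 1
    rw [map_mul, h, ← map_mul, hdd, map_one]

/-- The common centraliser in the derived group of `d` and a neighbour, `d` having an image of
type M(23). -/
theorem derived_pair_aux (S : Setting D) (hl : HasLines D) {d u : G} (hd : d ∈ D)
    (hu : u ∈ link D d) (SX : Setting (img D d)) (hX : Cfsg.IsOfTypeM23 (Quot D d) (img D d))
    (hA : centralizer ({d} : Set G) ≤ closure (link D d)) (hodd : ∀ x ∈ D, x ∉ commutator G)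
    (K : Subgroup G) (hK : K = commutator G ⊓ centralizer ({d, u} : Set G)) :
    d * u ∈ K ∧ (link D d ∩ link D u).Nonempty ∧ Cfsg.IsQuasisimple ↥K ∧
      (∀ z ∈ center ↥K, (z : G) = 1 ∨ (z : G) = d * u) ∧
      ∃ q ∈ img D d, Setting (img (img D d) q) ∧
        Cfsg.IsOfTypeM22 (Quot (img D d) q) (img (img D d) q) ∧
        Nonempty (↥K ⧸ center ↥K ≃* Quot (img D d) q) := by
  have hset := S.cls.1
  have hn := S.noCentral hd (pair_of_typeM23_img hX)
  set q₀ := toImg D d hu with hq₀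
  obtain ⟨⟨s₀, hs₀⟩, hqM, hMq, hMc, q, hq, SY, hY, ⟨eY⟩⟩ :=
    link_group_of_typeM23 SX hX (toImg_mem hu)
  rw [← hq₀] at hs₀ hqM hMq hMc eY
  set M := closure (link (img D d) q₀) with hM
  set H := closure (link D d) with hH
  set W := link D d ∩ link D u with hW
  set C := centralizer ({d, u} : Set G) with hC
  have hCd : ∀ {k : G}, k ∈ C → Commute k d := fun hk => (mem_centralizer_iff.1 hk d (by simp)).symm
  have hCu : ∀ {k : G}, k ∈ C → Commute k u := fun hk => (mem_centralizer_iff.1 hk u (by simp)).symm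
  have hCH : C ≤ H := fun k hk => hA (mem_centralizer_singleton_iff.2 (hCd hk).eq)
  have hWC : ∀ {w}, w ∈ W → w ∈ C := by
    intro w hw
    refine mem_centralizer_iff.2 ?_
    rintro x (rfl | rfl)
    · exact hw.1.2.2.eq
    · exact hw.2.2.2.eq
  have hdC : d ∈ C := mem_centralizer_iff.2 (by
    rintro x (rfl | rfl)
    · rfl
    · exact hu.2.2.eq.symm)
  have huC : u ∈ C := mem_centralizer_iff.2 (by
    rintro x (rfl | rfl)
    · exact hu.2.2.eq
    · rfl)
  let f : ↥C →* Quot D d := (QuotientGroup.mk' (center ↥H)).comp (Subgroup.inclusion hCH)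
  have hfd : f ⟨d, hdC⟩ = 1 := by
    refine (QuotientGroup.eq_one_iff _).2 (mem_center_iff.2 fun y => Subtype.ext ?_)
    exact mem_centralizer_singleton_iff.1 (CfsgLib.FischerUnique.closure_link_le_centralizer y.2)
  have hker : ∀ k : ↥C, f k = 1 → (k : G) = 1 ∨ (k : G) = d := fun k hk =>
    CfsgLib.FischerUnique.center_link_le S hl hd hu ((QuotientGroup.eq_one_iff _).1 hk)
  have hB : centralizer ({q₀} : Set (Quot D d)) = M :=
    CfsgLib.FischerCent.centralizer_eq_of_typeM23 SX hX (toImg_mem hu)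
  have hfM : ∀ k : ↥C, f k ∈ M := fun k => by
    rw [← hB]
    refine mem_centralizer_singleton_iff.2 ?_
    exact ((show Commute (Subgroup.inclusion hCH k) (⟨u, subset_closure hu⟩ : ↥H) from
      Subtype.ext (hCu k.2).eq).map (QuotientGroup.mk' _)).eq
  have hlift : ∀ {s}, s ∈ link (img D d) q₀ → ∃ (w : G) (hw : w ∈ W), toImg D d hw.1 = s := by
    intro s hs
    obtain ⟨w, hw, rfl⟩ := exists_toImg hs.1
    exact ⟨w, ⟨hw, hw.1, fun h => hs.2.1 (by subst h; rfl),
      commute_of_toImg hset hu hw hs.2.2⟩, rfl⟩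
  obtain ⟨w₀, hw₀, -⟩ := hlift hs₀
  have hsurjC : ∀ m ∈ M, ∃ k : ↥C, f k = m := by
    intro m hm
    have hle : M ≤ f.range := by
      rw [hM]
      refine (closure_le _).2 fun s hs => ?_
      obtain ⟨w, hw, rfl⟩ := hlift hs
      exact ⟨⟨w, hWC hw⟩, rfl⟩
    exact hle hm
  have hKC : K ≤ C := hK ▸ inf_le_right
  let φ : ↥K →* ↥M := (f.comp (Subgroup.inclusion hKC)).codRestrict M fun k => hfM _
  have hinj : Function.Injective φ := by
    refine (injective_iff_map_eq_one φ).2 fun k hk => ?_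
    rcases hker (Subgroup.inclusion hKC k) (congrArg Subtype.val hk) with h | h
    · exact Subtype.ext h
    · have h' : (k : G) ∈ commutator G := (mem_inf.1 (hK ▸ k.2 : (k : G) ∈ commutator G ⊓ C)).1
      exact absurd (h ▸ h' : d ∈ commutator G) (hodd d hd)
  have hsur : Function.Surjective φ := by
    rintro ⟨m, hm⟩
    obtain ⟨x, hx⟩ := hsurjC m hm
    rcases mem_or_mul_mem_commutator S.cls hd (x : G) with h | h
    · exact ⟨⟨x, hK ▸ mem_inf.2 ⟨h, x.2⟩⟩, Subtype.ext hx⟩
    · refine ⟨⟨(x : G) * d, hK ▸ mem_inf.2 ⟨h, mul_mem x.2 hdC⟩⟩, Subtype.ext ?_⟩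
      show f (x * ⟨d, hdC⟩) = m
      rw [map_mul, hfd, mul_one, hx]
  let e : ↥K ≃* ↥M := MulEquiv.ofBijective φ ⟨hinj, hsur⟩
  have hduL : d * u ∈ commutator G := by
    rcases mem_or_mul_mem_commutator S.cls hd u with h | h
    · exact absurd h (hodd u hu.1)
    · rwa [(hu.2.2.eq : d * u = u * d)]
  have hduK : d * u ∈ K := hK ▸ mem_inf.2 ⟨hduL, mul_mem hdC huC⟩
  have hez : (e ⟨d * u, hduK⟩ : Quot D d) = q₀ := by
    show f (⟨d, hdC⟩ * ⟨u, huC⟩) = q₀
    rw [map_mul, hfd, one_mul]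
    rfl
  refine ⟨hduK, ⟨w₀, hw₀⟩, CfsgLib.Components.quasisimple_congr e.symm |>.1 hMq, fun z hz => ?_,
    q, hq, SY, hY, ?_⟩
  · have h1 : e z ∈ center ↥M := mem_center_iff.2 fun y => by
      obtain ⟨y, rfl⟩ := e.surjective y
      rw [← map_mul, ← map_mul, mem_center_iff.1 hz y]
    rcases hMc _ h1 with h | h
    · exact Or.inl (congrArg Subtype.val (e.injective ((Subtype.ext h).trans (map_one e).symm) :
        z = 1))
    · exact Or.inr (congrArg Subtype.val (e.injective (Subtype.ext (h.trans hez.symm)) :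
        z = ⟨d * u, hduK⟩))
  · obtain ⟨e'⟩ := nonempty_quot_center_congr e
    exact ⟨e'.trans eY⟩

/-- The data of the common centraliser in the derived group of any commuting pair in type M(24). -/
theorem derived_pair (S : Setting D) (h : Cfsg.IsOfTypeM24 G D) {d₀ : G} (hd₀ : d₀ ∈ D)
    (h3 : Cfsg.pCore 3 ↥(closure (link D d₀)) ≤ center ↥(closure (link D d₀)))
    (h2 : Cfsg.pCore 2 ↥(closure (link D d₀)) ≤ center ↥(closure (link D d₀)))
    (hodd : ∀ x ∈ D, x ∉ commutator G) {d₁ d₂ : G} (h₁ : d₁ ∈ D) (h₂ : d₂ ∈ link D d₁)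
    (K : Subgroup G) (hK : K = commutator G ⊓ centralizer ({d₁, d₂} : Set G)) :
    d₁ * d₂ ∈ K ∧ (link D d₁ ∩ link D d₂).Nonempty ∧ Cfsg.IsQuasisimple ↥K ∧
      (∀ z ∈ center ↥K, (z : G) = 1 ∨ (z : G) = d₁ * d₂) ∧
      ∃ d ∈ D, ∃ q ∈ img D d, Setting (img (img D d) q) ∧
        Cfsg.IsOfTypeM22 (Quot (img D d) q) (img (img D d) q) ∧
        Nonempty (↥K ⧸ center ↥K ≃* Quot (img D d) q) := by
  obtain ⟨d, hd, SX, hX⟩ := S.quotSetting_of_typeM24 h hd₀ h3 h2
  obtain ⟨u, hu, -⟩ := pair_of_typeM23_img hX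
  have hA : centralizer ({d} : Set G) ≤ closure (link D d) :=
    (CfsgLib.FischerCent.centralizer_eq_of_typeM24 S h hd₀ h3 h2 hd).le
  obtain ⟨hz, ⟨w, hw⟩, hq, hc, q, hqm, SY, hY, ⟨eY⟩⟩ := derived_pair_aux S
    (S.good_of_typeM24 h hd₀ h3 h2).lines hd hu SX hX hA hodd _ rfl
  obtain ⟨g, hg1, hg2⟩ := S.exists_conj_pair hd hu h₁ h₂
  set K₀ := commutator G ⊓ centralizer ({d, u} : Set G) with hK₀
  have hmap : K₀.map (MulAut.conj g).toMonoidHom = K := by
    ext x
    refine (mem_map_equiv (f := MulAut.conj g)).trans ?_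
    rw [hK, hK₀, mem_inf, mem_inf]
    refine and_congr ?_ ?_
    · show g⁻¹ * x * g ∈ commutator G ↔ _
      constructor <;> intro hm
      · have := (inferInstance : (commutator G).Normal).conj_mem _ hm g
        rwa [show g * (g⁻¹ * x * g) * g⁻¹ = x by group] at this
      · have := (inferInstance : (commutator G).Normal).conj_mem _ hm g⁻¹
        rwa [inv_inv] at this
    rw [mem_centralizer_iff, mem_centralizer_iff]
    simp only [Set.mem_insert_iff, Set.mem_singleton_iff, forall_eq_or_imp, forall_eq]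
    show d * (g⁻¹ * x * g) = g⁻¹ * x * g * d ∧ u * (g⁻¹ * x * g) = g⁻¹ * x * g * u ↔ _
    have key : ∀ {a b : G}, g * a * g⁻¹ = b →
        (a * (g⁻¹ * x * g) = g⁻¹ * x * g * a ↔ b * x = x * b) := by
      intro a b hab
      subst hab
      constructor <;> intro h
      · calc g * a * g⁻¹ * x = g * (a * (g⁻¹ * x * g)) * g⁻¹ := by group
          _ = _ := by rw [h]; group
      · calc a * (g⁻¹ * x * g) = g⁻¹ * (g * a * g⁻¹ * x) * g := by group
          _ = _ := by rw [h]; group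
    rw [key hg1, key hg2]
  let e : ↥K₀ ≃* ↥K :=
    (K₀.equivMapOfInjective (MulAut.conj g).toMonoidHom
      (MulAut.conj g).injective).trans (MulEquiv.subgroupCongr hmap)
  have hval : ∀ x : ↥K₀, (e x : G) = g * x * g⁻¹ := fun _ => rfl
  have hmul : g * (d * u) * g⁻¹ = d₁ * d₂ := by
    rw [show g * (d * u) * g⁻¹ = (g * d * g⁻¹) * (g * u * g⁻¹) by group, hg1, hg2]
  refine ⟨?_, ⟨g * w * g⁻¹, hg1 ▸ link_conj_mem S.cls g hw.1, hg2 ▸ link_conj_mem S.cls g hw.2⟩,
    CfsgLib.Components.quasisimple_congr e |>.1 hq, fun z hz' => ?_, d, hd, q, hqm, SY, hY, ?_⟩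
  · have h1 : g * (d * u) * g⁻¹ ∈ K := (hval ⟨d * u, hz⟩) ▸ (e ⟨d * u, hz⟩).2
    rwa [hmul] at h1
  · have h1 : e.symm z ∈ center ↥K₀ := mem_center_iff.2 fun y =>
      e.injective (by rw [map_mul, map_mul, e.apply_symm_apply, mem_center_iff.1 hz' (e y)])
    have h2 := hval (e.symm z)
    rw [e.apply_symm_apply] at h2
    rcases hc _ h1 with h' | h' <;> rw [h'] at h2
    · exact Or.inl (by rw [h2, mul_one, mul_inv_cancel])
    · exact Or.inr (h2.trans hmul)
  · obtain ⟨e'⟩ := nonempty_quot_center_congr e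
    exact ⟨e'.symm.trans eY⟩

/-- The automorphisms induced on the quotient by the centre. -/
def centerQuotAut (L : Type*) [Group L] : MulAut L →* MulAut (L ⧸ center L) :=
  MonoidHom.mk' (fun α => QuotientGroup.congr (center L) (center L) α
    (Subgroup.characteristic_iff_map_eq.1 inferInstance α)) fun α β => by
      ext x
      obtain ⟨y, rfl⟩ := QuotientGroup.mk_surjective x
      rfl

/-- The centraliser in the derived group of the product of a commuting pair. -/
theorem product_centralizer_derived (S : Setting D) {d₁ d₂ : G} (h₁ : d₁ ∈ D)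
    (h₂ : d₂ ∈ link D d₁) (K CL : Subgroup G)
    (hK : K = commutator G ⊓ centralizer ({d₁, d₂} : Set G))
    (hCL : CL = commutator G ⊓ centralizer ({d₁ * d₂} : Set G)) (hodd : ∀ x ∈ D, x ∉ commutator G)
    (hz : d₁ * d₂ ∈ K) (hW : (link D d₁ ∩ link D d₂).Nonempty) (hq : Cfsg.IsQuasisimple ↥K)
    (hc : ∀ z ∈ center ↥K, (z : G) = 1 ∨ (z : G) = d₁ * d₂)
    {A : Type*} [Group A] [Finite A] (hAut : Nat.card (MulAut A) ≤ 2 * Nat.card A)
    (hiso : Nonempty (↥K ⧸ center ↥K ≃* A))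
    [hn : ((zpowers (d₁ * d₂)).subgroupOf CL).Normal] :
    K = (Cfsg.generalizedFittingSubgroup ↥CL).map CL.subtype ∧ K ≤ CL ∧
      (K.subgroupOf CL).index = 2 ∧
      Nonempty (↥CL ⧸ (zpowers (d₁ * d₂)).subgroupOf CL ≃* MulAut A) := by
  obtain ⟨ψ⟩ := hiso
  obtain ⟨w, hw1, hw2⟩ := hW
  have hset := S.cls.1
  have hne : d₁ ≠ d₂ := h₂.2.1.symm
  have hc12 : Commute d₁ d₂ := h₂.2.2
  have hKd : ∀ {k}, k ∈ K → Commute k d₁ ∧ Commute k d₂ := by
    intro k hk
    rw [hK, mem_inf, mem_centralizer_iff] at hk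
    exact ⟨(hk.2 d₁ (by simp)).symm, (hk.2 d₂ (by simp)).symm⟩
  have hmemK : ∀ x : G, x ∈ K ↔ x ∈ commutator G ∧ x * d₁ * x⁻¹ = d₁ ∧ x * d₂ * x⁻¹ = d₂ := by
    intro x
    constructor
    · exact fun hx => ⟨(mem_inf.1 (hK ▸ hx : x ∈ commutator G ⊓ _)).1,
        conj_self_of_commute (hKd hx).1, conj_self_of_commute (hKd hx).2⟩
    · rintro ⟨hx, e1, e2⟩
      rw [hK, mem_inf, mem_centralizer_iff]
      refine ⟨hx, ?_⟩
      rintro y (rfl | rfl)
      · exact (mul_inv_eq_iff_eq_mul.1 e1).symm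
      · exact (mul_inv_eq_iff_eq_mul.1 e2).symm
  have hCLmem : ∀ {x}, x ∈ CL → x ∈ commutator G ∧ x * (d₁ * d₂) = d₁ * d₂ * x := by
    intro x hx
    rw [hCL, mem_inf, mem_centralizer_singleton_iff] at hx
    exact hx
  have hKC : K ≤ CL := by
    intro k hk
    rw [hCL, mem_inf, mem_centralizer_singleton_iff]
    exact ⟨((hmemK k).1 hk).1, ((hKd hk).1.mul_right (hKd hk).2).eq⟩
  -- an element of the derived group exchanges the pair
  obtain ⟨s₀, hs₀1, hs₀2⟩ := S.exists_conj_pair h₁ h₂ h₂.1 ⟨h₁, h₂.2.1.symm, hc12.symm⟩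
  obtain ⟨s, hsL, hs1, hs2⟩ : ∃ s ∈ commutator G, s * d₁ * s⁻¹ = d₂ ∧ s * d₂ * s⁻¹ = d₁ := by
    rcases mem_or_mul_mem_commutator S.cls h₁ s₀ with h | h
    · exact ⟨s₀, h, hs₀1, hs₀2⟩
    · refine ⟨s₀ * d₁, h, ?_, ?_⟩
      · rw [mul_inv_rev, show s₀ * d₁ * d₁ * (d₁⁻¹ * s₀⁻¹) = s₀ * d₁ * s₀⁻¹ by group, hs₀1]
      · rw [mul_inv_rev, show s₀ * d₁ * d₂ * (d₁⁻¹ * s₀⁻¹) = s₀ * (d₁ * d₂ * d₁⁻¹) * s₀⁻¹ by group,
          conj_self_of_commute hc12, hs₀2]
  have hsC : s ∈ CL := by
    rw [hCL, mem_inf, mem_centralizer_singleton_iff]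
    refine ⟨hsL, mul_inv_eq_iff_eq_mul.1 ?_⟩
    calc s * (d₁ * d₂) * s⁻¹ = (s * d₁ * s⁻¹) * (s * d₂ * s⁻¹) := by group
      _ = d₁ * d₂ := by rw [hs1, hs2, hc12.eq]
  have hperm : ∀ b ∈ CL, (b * d₁ * b⁻¹ = d₁ ∧ b * d₂ * b⁻¹ = d₂) ∨
      (b * d₁ * b⁻¹ = d₂ ∧ b * d₂ * b⁻¹ = d₁) := by
    intro b hb
    have hb' : b * (d₁ * d₂) = (d₁ * d₂) * b :=
      (hCLmem hb).2
    refine S.pair_unique (CfsgLib.ThreeTransp.class_conj_mem S.cls _ h₁)
      (CfsgLib.ThreeTransp.class_conj_mem S.cls _ h₂.1) h₁ h₂.1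
      (fun h => hne (mul_left_cancel (mul_right_cancel h))) hne
      ((CfsgLib.ThreeTrans.commute_conj_iff' b d₁ d₂).2 hc12) hc12 ?_
    calc (b * d₁ * b⁻¹) * (b * d₂ * b⁻¹) = b * (d₁ * d₂) * b⁻¹ := by group
      _ = d₁ * d₂ := by rw [hb', mul_inv_cancel_right]
  have hidx : (K.subgroupOf CL).index = 2 := by
    refine index_eq_two_iff.2 ⟨⟨s, hsC⟩, fun b => ?_⟩
    have hbL : (b : G) ∈ commutator G := (hCLmem b.2).1
    rw [mem_subgroupOf, mem_subgroupOf, hmemK, hmemK, Subgroup.coe_mul]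
    have eb : ∀ x : G, b * s * x * ((b : G) * s)⁻¹ = b * (s * x * s⁻¹) * (b : G)⁻¹ := fun x => by
      group
    rw [eb, eb, hs1, hs2]
    rcases hperm b b.2 with ⟨e1, e2⟩ | ⟨e1, e2⟩
    · rw [e1, e2]
      exact Or.inr ⟨⟨hbL, rfl, rfl⟩, fun h => hne h.2.1.symm⟩
    · rw [e1, e2]
      exact Or.inl ⟨⟨mul_mem hbL hsL, rfl, rfl⟩, fun h => hne h.2.1.symm⟩
  -- the centraliser of K in CL lies in K
  have hw1L : w * d₁ ∈ commutator G := by
    rcases mem_or_mul_mem_commutator S.cls h₁ w with h | h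
    · exact absurd h (hodd w hw1.1)
    · exact h
  have hwK : w * d₁ ∈ K := by
    rw [hK, mem_inf, mem_centralizer_iff]
    refine ⟨hw1L, ?_⟩
    rintro y (rfl | rfl)
    · exact (hw1.2.2.mul_right (Commute.refl _)).eq
    · exact (hw2.2.2.mul_right hc12.symm).eq
  have hcK : ∀ c ∈ CL, (∀ k ∈ K, Commute c k) → c ∈ K := by
    intro c hc' hall
    have hcL : c ∈ commutator G := (hCLmem hc').1
    rcases hperm c hc' with ⟨e1, e2⟩ | ⟨e1, e2⟩
    · exact (hmemK c).2 ⟨hcL, e1, e2⟩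
    · exfalso
      have h1 : (c * w * c⁻¹) * d₂ = w * d₁ := by
        conv_lhs => rw [← e1]
        calc (c * w * c⁻¹) * (c * d₁ * c⁻¹) = c * (w * d₁) * c⁻¹ := by group
          _ = w * d₁ := conj_self_of_commute (hall _ hwK)
      have hcw : Commute (c * w * c⁻¹) d₂ :=
        e1 ▸ (CfsgLib.ThreeTrans.commute_conj_iff' c w d₁).2 hw1.2.2.symm
      have hcn : c * w * c⁻¹ ≠ d₂ := fun h =>
        hw1.2.1 (mul_left_cancel (mul_right_cancel (h.trans e1.symm)))
      rcases S.pair_unique (CfsgLib.ThreeTransp.class_conj_mem S.cls _ hw1.1) h₂.1 hw1.1 h₁ hcn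
        hw1.2.1 hcw hw1.2.2.symm h1 with ⟨-, e4⟩ | ⟨-, e4⟩
      · exact hne e4.symm
      · exact hw2.2.1 e4.symm
  set K' := K.subgroupOf CL with hK'
  haveI hK'n : K'.Normal := normal_of_index_eq_two hidx
  have hq' : Cfsg.IsQuasisimple ↥K' :=
    CfsgLib.Components.quasisimple_congr (subgroupOfEquivOfLe hKC).symm |>.1 hq
  have hK'c : Cfsg.IsComponent K' := ⟨hK'n.isSubnormal, hq'⟩
  have hcent : centralizer (K' : Set ↥CL) ≤ K' := fun c hc' =>
    mem_subgroupOf.2 (hcK c c.2 fun k hk =>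
      (congrArg Subtype.val (mem_centralizer_iff.1 hc' ⟨k, hKC hk⟩ hk)).symm)
  have hF : Cfsg.generalizedFittingSubgroup ↥CL = K' := by
    refine le_antisymm (sup_le (sSup_le fun J hJ => ?_) ?_)
      (CfsgLib.Components.component_le_genFitting hK'c)
    · rcases CfsgLib.Components.component_eq_or_commutator hJ hK'c with h | h
      · exact h.le
      · exact (CfsgLib.Components.le_centralizer_of_commutator_eq_bot
          (by rwa [commutator_comm] at h ⊢)).trans hcent
    · exact (CfsgLib.Components.le_centralizer_of_commutator_eq_bot (by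
        rw [commutator_comm]; exact CfsgLib.Components.component_commutator_fitting hK'c)).trans hcent
  refine ⟨?_, hKC, hidx, ?_⟩
  · rw [hF, hK', map_subgroupOf_eq_of_le hKC]
  -- the action on K modulo its centre
  let eK : ↥K' ≃* ↥K := subgroupOfEquivOfLe hKC
  obtain ⟨eK'⟩ := nonempty_quot_center_congr eK
  let ψ' : ↥K' ⧸ center ↥K' ≃* A := eK'.trans ψ
  let θ : ↥CL →* MulAut A :=
    (MulAut.congr ψ').toMonoidHom.comp ((centerQuotAut ↥K').comp MulAut.conjNormal)
  haveI : Group.IsPerfect ↥K' := hq'.1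
  have hzK' : ∀ z : ↥K', z ∈ center ↥K' → ((z : ↥CL) : G) = 1 ∨ ((z : ↥CL) : G) = d₁ * d₂ :=
    fun z hz' => hc (eK z) (mem_center_iff.2 fun y => by
      obtain ⟨y, rfl⟩ := eK.surjective y
      rw [← map_mul, ← map_mul, mem_center_iff.1 hz' y])
  have hzC : d₁ * d₂ ∈ CL := hKC hz
  have hzcen : ∀ c : ↥CL, Commute (c : G) (d₁ * d₂) := fun c =>
    (hCLmem c.2).2
  have hker : θ.ker = (zpowers (d₁ * d₂)).subgroupOf CL := by
    refine le_antisymm (fun c hc' => ?_) fun c hc' => ?_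
    · have h1 : centerQuotAut ↥K' (MulAut.conjNormal c) = 1 :=
        (MulAut.congr ψ').injective (by rw [map_one]; exact MonoidHom.mem_ker.1 hc')
      have hcv : ∀ k : ↥K', k⁻¹ * MulAut.conjNormal c k ∈ center ↥K' := fun k => by
        have h2 : centerQuotAut ↥K' (MulAut.conjNormal c) (QuotientGroup.mk k) =
            QuotientGroup.mk k := by rw [h1]; rfl
        exact QuotientGroup.eq.1 h2.symm
      let χ : ↥K' →* ↥(center ↥K') :=
        { toFun := fun k => ⟨k⁻¹ * MulAut.conjNormal c k, hcv k⟩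
          map_one' := by simp
          map_mul' := fun k l => by
            refine Subtype.ext ?_
            show (k * l)⁻¹ * MulAut.conjNormal c (k * l) =
              k⁻¹ * MulAut.conjNormal c k * (l⁻¹ * MulAut.conjNormal c l)
            have e := mem_center_iff.1 (hcv k) l⁻¹
            calc (k * l)⁻¹ * MulAut.conjNormal c (k * l)
                = l⁻¹ * (k⁻¹ * MulAut.conjNormal c k) * MulAut.conjNormal c l := by
                  rw [map_mul]; group
              _ = _ := by rw [e, mul_assoc] }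
      have hχ : ∀ k : ↥K', χ k = 1 := by
        intro k
        have hle : commutator ↥K' ≤ χ.ker := by
          rw [_root_.commutator_def, commutator_le]
          intro a _ b _
          rw [MonoidHom.mem_ker, map_commutatorElement, commutatorElement_eq_one_iff_commute]
          exact Subtype.ext (mem_center_iff.1 (χ b).2 _)
        exact hle (hq'.1.commutator_eq_top ▸ mem_top k)
      have hcc : (c : ↥CL) ∈ centralizer (K' : Set ↥CL) := mem_centralizer_iff.2 fun k hk => by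
        have h3 : (⟨k, hk⟩ : ↥K')⁻¹ * MulAut.conjNormal c ⟨k, hk⟩ = 1 :=
          congrArg Subtype.val (hχ ⟨k, hk⟩)
        have h4 : k = c * k * c⁻¹ := by
          have := congrArg Subtype.val (inv_mul_eq_one.1 h3)
          rwa [MulAut.conjNormal_apply] at this
        exact (mul_inv_eq_iff_eq_mul.1 h4.symm).symm
      have hcK' : c ∈ K' := hcent hcc
      rcases hzK' ⟨c, hcK'⟩ (mem_center_iff.2 fun k =>
        Subtype.ext (mem_centralizer_iff.1 hcc k k.2)) with h | h
      · rw [mem_subgroupOf]; rw [show (c : G) = 1 from h]; exact one_mem _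
      · rw [mem_subgroupOf]; rw [show (c : G) = d₁ * d₂ from h]; exact mem_zpowers _
    · obtain ⟨i, hi⟩ := mem_subgroupOf.1 hc'
      have hcc : ∀ k : ↥CL, Commute (k : G) c := fun k => by
        have hi' : (d₁ * d₂) ^ i = (c : G) := hi
        rw [← hi']; exact (hzcen k).zpow_right i
      refine MonoidHom.mem_ker.2 ?_
      have h1 : MulAut.conjNormal c = (1 : MulAut ↥K') := by
        refine MulEquiv.ext fun k => Subtype.ext (Subtype.ext ?_)
        rw [MulAut.conjNormal_apply]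
        show (c : G) * (k : ↥CL) * (c : G)⁻¹ = (k : ↥CL)
        exact conj_self_of_commute (hcc k).symm
      show (MulAut.congr ψ') (centerQuotAut ↥K' (MulAut.conjNormal c)) = 1
      rw [h1, map_one, map_one]
  -- orders
  have hz2 : orderOf (d₁ * d₂) = 2 := by
    refine orderOf_eq_prime ?_ fun h => hne ?_
    · rw [pow_two, show d₁ * d₂ * (d₁ * d₂) = d₁ * (d₂ * d₁) * d₂ by group, ← hc12.eq,
        show d₁ * (d₁ * d₂) * d₂ = (d₁ * d₁) * (d₂ * d₂) by group, mul_self hset h₁,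
        mul_self hset h₂.1, one_mul]
    · rw [eq_inv_of_mul_eq_one_left h, inv_eq hset h₂.1]
  have hZ2 : Nat.card ↥(center ↥K') = 2 := by
    have hmap : (center ↥K').map (CL.subtype.comp K'.subtype) = zpowers (d₁ * d₂) := by
      refine le_antisymm ?_ ((zpowers_le).2 ⟨⟨⟨d₁ * d₂, hzC⟩, hz⟩, mem_center_iff.2 fun k =>
        Subtype.ext (Subtype.ext (hzcen (k : ↥CL)).eq), rfl⟩)
      rintro _ ⟨z, hz', rfl⟩
      rcases hzK' z hz' with h | h
      · show ((z : ↥CL) : G) ∈ _; rw [h]; exact one_mem _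
      · show ((z : ↥CL) : G) ∈ _; rw [h]; exact mem_zpowers _
    rw [← hz2, ← Nat.card_zpowers, ← hmap]
    exact (Nat.card_congr ((center ↥K').equivMapOfInjective _
      (CL.subtype_injective.comp K'.subtype_injective)).toEquiv)
  have hV2 : Nat.card ↥((zpowers (d₁ * d₂)).subgroupOf CL) = 2 := by
    rw [Nat.card_congr (subgroupOfEquivOfLe ((zpowers_le).2 hzC)).toEquiv, Nat.card_zpowers, hz2]
  let θ' : ↥CL ⧸ (zpowers (d₁ * d₂)).subgroupOf CL →* MulAut A :=
    QuotientGroup.lift _ θ hker.ge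
  have hinj : Function.Injective θ' := by
    refine (injective_iff_map_eq_one θ').2 fun x hx => ?_
    obtain ⟨c, rfl⟩ := QuotientGroup.mk_surjective x
    exact (QuotientGroup.eq_one_iff c).2 (hker ▸ MonoidHom.mem_ker.2 hx)
  haveI : Finite (MulAut A) := Finite.of_injective _ DFunLike.coe_injective
  have hcard : 2 * Nat.card (↥CL ⧸ (zpowers (d₁ * d₂)).subgroupOf CL) = 2 * (2 * Nat.card A) := by
    conv_lhs => enter [1]; rw [← hV2]
    rw [mul_comm, ← card_eq_card_quotient_mul_card_subgroup, ← index_mul_card K', hidx,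
      card_eq_card_quotient_mul_card_subgroup (center ↥K'), hZ2, Nat.card_congr ψ'.toEquiv]
    ring
  exact ⟨MulEquiv.ofBijective θ' ((Nat.bijective_iff_injective_and_card θ').2 ⟨hinj,
    le_antisymm (Nat.card_le_card_of_injective θ' hinj)
      (by rw [Nat.eq_of_mul_eq_mul_left (by norm_num) hcard]; exact hAut)⟩)⟩

end CfsgLib.FischerPair
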