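import Cfsg.Agent.Lib.FischerPair.M24
import Cfsg.Agent.Lib.FischerTriple.Parity
import Cfsg.Agent.Lib.CosetEnum.Fi22.RigidMain

set_option autoImplicit false

/-! The product of a commuting pair in type M(24), given that groups of type M(22) are Fi22. -/

namespace CfsgLib.FischerPair

open Subgroup
open CfsgLib.ThreeTrans (link)
open CfsgLib.FischerType

universe u

theorem card_mulAut_fi22 :
    Nat.card (MulAut Cfsg.Spor.Fi22) ≤ 2 * Nat.card Cfsg.Spor.Fi22 := by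
  haveI := CfsgLib.CosetEnum.Fi22.finite
  rw [card_eq_card_quotient_mul_card_subgroup (Cfsg.Inn Cfsg.Spor.Fi22),
    show Nat.card (MulAut Cfsg.Spor.Fi22 ⧸ Cfsg.Inn Cfsg.Spor.Fi22) = 2 from
      CfsgLib.CosetEnum.Fi22.Rigid.card_out]
  exact Nat.mul_le_mul_left 2 (Nat.card_le_card_of_surjective
    (MulAut.conj : Cfsg.Spor.Fi22 →* MulAut Cfsg.Spor.Fi22).rangeRestrict
    (MonoidHom.rangeRestrict_surjective _))

variable {G : Type u} [Group G] [Finite G] {D : Set G}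

/-- The centraliser in the derived group of the product of a commuting pair. -/
theorem product_of_iso
    (hiso : ∀ (X : Type u) [Group X] [Finite X] (E : Set X), Setting E →
      Cfsg.IsOfTypeM22 X E → Nonempty (X ≃* Cfsg.Spor.Fi22))
    (S : Setting D) (h : Cfsg.IsOfTypeM24 G D) {d₀ : G} (hd₀ : d₀ ∈ D)
    (h3 : Cfsg.pCore 3 ↥(closure (link D d₀)) ≤ center ↥(closure (link D d₀)))
    (h2 : Cfsg.pCore 2 ↥(closure (link D d₀)) ≤ center ↥(closure (link D d₀)))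
    {L : Subgroup G} (hL : L = commutator G) {d₁ d₂ : G} (h₁ : d₁ ∈ D) (h₂ : d₂ ∈ link D d₁)
    (K CL : Subgroup G) (hK : K = L ⊓ centralizer ({d₁, d₂} : Set G))
    (hCL : CL = L ⊓ centralizer ({d₁ * d₂} : Set G))
    [hn : ((zpowers (d₁ * d₂)).subgroupOf CL).Normal] :
    Cfsg.IsQuasisimple ↥K ∧ K = (Cfsg.generalizedFittingSubgroup ↥CL).map CL.subtype ∧ K ≤ CL ∧
      (K.subgroupOf CL).index = 2 ∧ d₁ * d₂ ∈ K ∧
      Nonempty (↥CL ⧸ (zpowers (d₁ * d₂)).subgroupOf CL ≃* MulAut Cfsg.Spor.Fi22) := by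
  subst hL
  have hodd := CfsgLib.FischerTriple.not_mem_commutator_of_typeM24 S h hd₀ h3 h2
  obtain ⟨hz, hW, hq, hc, d, -, q, -, SY, hY, ⟨eY⟩⟩ :=
    derived_pair S h hd₀ h3 h2 hodd h₁ h₂ K hK
  obtain ⟨eF⟩ := hiso _ _ SY hY
  haveI := CfsgLib.CosetEnum.Fi22.finite
  obtain ⟨hF, hKC, hidx, hA⟩ := product_centralizer_derived S h₁ h₂ K CL hK hCL hodd hz hW hq hc
    card_mulAut_fi22 ⟨eY.trans eF⟩
  exact ⟨hq, hF, hKC, hidx, hz, hA⟩

end CfsgLib.FischerPair
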