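import Cfsg.Agent.Lib.FischerPair.Pair

set_option autoImplicit false

/-! The centraliser of the product of a commuting pair in type M(23). -/

namespace CfsgLib.FischerPair

open Subgroup
open CfsgLib.ThreeTrans (link mul_self inv_eq conj_self_of_commute)
open CfsgLib.FischerType

variable {G : Type*} [Group G] [Finite G] {D : Set G}

/-- An isomorphism restricted to subgroups corresponding under it, modulo centres. -/
theorem nonempty_quot_center_congr {A B : Type*} [Group A] [Group B] (e : A ≃* B) :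
    Nonempty (A ⧸ center A ≃* B ⧸ center B) := by
  refine ⟨QuotientGroup.congr _ _ e ?_⟩
  refine le_antisymm ?_ fun x hx => ?_
  · rintro _ ⟨x, hx, rfl⟩
    refine mem_center_iff.2 fun y => ?_
    obtain ⟨y, rfl⟩ := e.surjective y
    show e y * e x = e x * e y
    rw [← map_mul, ← map_mul, mem_center_iff.1 hx y]
  · refine ⟨e.symm x, mem_center_iff.2 fun y => e.injective ?_, e.apply_symm_apply x⟩
    rw [map_mul, map_mul, e.apply_symm_apply, mem_center_iff.1 hx (e y)]

/-- The link groups of two members are isomorphic. -/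
theorem nonempty_link_equiv {X : Type*} [Group X] [Finite X] {E : Set X} (S : Setting E) {a b : X}
    (ha : a ∈ E) (hb : b ∈ E) : Nonempty (↥(closure (link E a)) ≃* ↥(closure (link E b))) := by
  obtain ⟨g, hg⟩ := CfsgLib.ThreeTransp.class_conj S.cls ha hb
  have himg : (MulAut.conj g).toMonoidHom '' link E a = link E b := by
    rw [← hg, ← CfsgLib.ThreeTrans.link_conj S.cls]; rfl
  exact ⟨((closure (link E a)).equivMapOfInjective (MulAut.conj g).toMonoidHom
    (MulAut.conj g).injective).trans (MulEquiv.subgroupCongr (by rw [MonoidHom.map_closure, himg]))⟩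

/-- The statements about the common centraliser of any commuting pair. -/
theorem pair_centralizer (S : Setting D) (hl : HasLines D)
    (hP : ∀ a ∈ D, ∀ b ∈ link D a, PairTwinFree D a b) {d : G} (hd : d ∈ D)
    (SX : Setting (img D d)) (hX : Cfsg.IsOfTypeM22 (Quot D d) (img D d))
    (hA : centralizer ({d} : Set G) ≤ closure (link D d))
    (hB : ∀ q ∈ img D d, centralizer ({q} : Set (Quot D d)) ≤ closure (link (img D d) q))
    {d₁ d₂ : G} (h₁ : d₁ ∈ D) (h₂ : d₂ ∈ link D d₁) :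
    commutator ↥(centralizer ({d₁, d₂} : Set G)) = ⊤ ∧
      (∀ z ∈ center ↥(centralizer ({d₁, d₂} : Set G)), (z : G) ∈ closure ({d₁, d₂} : Set G)) ∧
      ∃ (F : Type) (_ : Field F) (_ : Fintype F), Fintype.card F = 4 ∧ IsSimpleGroup
        (↥(centralizer ({d₁, d₂} : Set G)) ⧸ center ↥(centralizer ({d₁, d₂} : Set G))) ∧ Nonempty
          (↥(centralizer ({d₁, d₂} : Set G)) ⧸ center ↥(centralizer ({d₁, d₂} : Set G)) ≃*
            Cfsg.PSU 6 F 2) := by
  obtain ⟨u, hu, hsix⟩ := exists_six S hl hP hd SX hX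
  obtain ⟨hperf, hcen, ⟨e₁⟩, hsimp⟩ := pair_of_six S hl hd hu SX hX hA hB hsix
  obtain ⟨d', hd', -, -, F, i1, i2, hF, ⟨e₂⟩⟩ := CfsgLib.FischerUnique.exists_data_of_typeM22 SX hX
  obtain ⟨e₃⟩ := nonempty_link_equiv SX (toImg_mem hu) hd'
  obtain ⟨e₄⟩ := nonempty_quot_center_congr e₃
  obtain ⟨g, hg1, hg2⟩ := S.exists_conj_pair hd hu h₁ h₂
  have hmap : (centralizer ({d, u} : Set G)).map (MulAut.conj g).toMonoidHom =
      centralizer ({d₁, d₂} : Set G) := by
    ext x
    refine (mem_map_equiv (f := MulAut.conj g)).trans ?_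
    rw [mem_centralizer_iff, mem_centralizer_iff]
    simp only [Set.mem_insert_iff, Set.mem_singleton_iff, forall_eq_or_imp, forall_eq]
    show d * (g⁻¹ * x * g) = g⁻¹ * x * g * d ∧ u * (g⁻¹ * x * g) = g⁻¹ * x * g * u ↔ _
    have key : ∀ {a b : G}, g * a * g⁻¹ = b →
        (a * (g⁻¹ * x * g) = g⁻¹ * x * g * a ↔ b * x = x * b) := by
      intro a b hab
      subst hab
      have e : g⁻¹ * x * g = g⁻¹ * x * g⁻¹⁻¹ := by rw [inv_inv]
      constructor <;> intro h
      · calc g * a * g⁻¹ * x = g * (a * (g⁻¹ * x * g)) * g⁻¹ := by group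
          _ = _ := by rw [h]; group
      · calc a * (g⁻¹ * x * g) = g⁻¹ * (g * a * g⁻¹ * x) * g := by group
          _ = _ := by rw [h]; group
    rw [key hg1, key hg2]
  let e : ↥(centralizer ({d, u} : Set G)) ≃* ↥(centralizer ({d₁, d₂} : Set G)) :=
    ((centralizer ({d, u} : Set G)).equivMapOfInjective (MulAut.conj g).toMonoidHom
      (MulAut.conj g).injective).trans (MulEquiv.subgroupCongr hmap)
  obtain ⟨e₅⟩ := nonempty_quot_center_congr e
  refine ⟨?_, fun z hz => ?_, F, i1, i2, hF, ?_, ⟨(e₅.symm.trans e₁).trans (e₄.trans e₂)⟩⟩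
  · rw [_root_.commutator_def] at hperf ⊢
    rw [← Subgroup.map_top_of_surjective e.toMonoidHom e.surjective, ← Subgroup.map_commutator,
      hperf]
  · have h1 : e.symm z ∈ center ↥(centralizer ({d, u} : Set G)) := mem_center_iff.2 fun y =>
      e.injective (by rw [map_mul, map_mul, e.apply_symm_apply, mem_center_iff.1 hz (e y)])
    have h2 : ((e (e.symm z)) : G) ∈ (closure ({d, u} : Set G)).map (MulAut.conj g).toMonoidHom :=
      ⟨_, hcen _ h1, rfl⟩
    rw [e.apply_symm_apply, MonoidHom.map_closure, Set.image_pair] at h2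
    simpa only [MulEquiv.coe_toMonoidHom, MulAut.conj_apply, hg1, hg2] using h2
  · have := (e₅.symm.trans e₁).toEquiv.nontrivial
    exact IsSimpleGroup.isSimpleGroup_of_surjective (e₅.symm.trans e₁).symm.toMonoidHom
      (e₅.symm.trans e₁).symm.surjective

/-- The centraliser of the product of a commuting pair. -/
theorem product_centralizer (S : Setting D) {d₁ d₂ : G} (h₁ : d₁ ∈ D) (h₂ : d₂ ∈ link D d₁)
    (hperf : commutator ↥(centralizer ({d₁, d₂} : Set G)) = ⊤)
    (hcen : ∀ z ∈ center ↥(centralizer ({d₁, d₂} : Set G)), (z : G) ∈ closure ({d₁, d₂} : Set G))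
    (K C V : Subgroup G) (hK : K = centralizer ({d₁, d₂} : Set G))
    (hC : C = centralizer ({d₁ * d₂} : Set G)) (hV : V = closure ({d₁, d₂} : Set G))
    [hn : (V.subgroupOf C).Normal] :
    K ≤ C ∧ (K.subgroupOf C).index = 2 ∧ (center ↥K).map K.subtype = V ∧
      center (↥C ⧸ V.subgroupOf C) = ⊥ := by
  have hc : Commute d₁ d₂ := h₂.2.2
  have hdK : d₁ ∈ K := by
    rw [hK, mem_centralizer_iff]
    rintro x (rfl | rfl)
    · rfl
    · exact hc.symm.eq
  have huK : d₂ ∈ K := by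
    rw [hK, mem_centralizer_iff]
    rintro x (rfl | rfl)
    · exact hc.eq
    · rfl
  have hKd : ∀ {k}, k ∈ K → Commute k d₁ ∧ Commute k d₂ := by
    intro k hk
    rw [hK, mem_centralizer_iff] at hk
    exact ⟨(hk d₁ (by simp)).symm, (hk d₂ (by simp)).symm⟩
  have hKC : K ≤ C := by
    intro k hk
    rw [hC, mem_centralizer_singleton_iff]
    exact ((hKd hk).1.mul_right (hKd hk).2).eq
  have hVK : V ≤ K := by
    rw [hV, closure_le]
    rintro x (rfl | rfl)
    · exact hdK
    · exact huK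
  have hVcen : ∀ v ∈ V, ∀ k ∈ K, Commute k v := by
    intro v hv k hk
    have : V ≤ centralizer {k} := by
      rw [hV, closure_le]
      rintro x (rfl | rfl)
      · exact mem_centralizer_singleton_iff.2 (hKd hk).1.eq.symm
      · exact mem_centralizer_singleton_iff.2 (hKd hk).2.eq.symm
    exact (mem_centralizer_singleton_iff.1 (this hv)).symm
  have hcenK : ∀ z : ↥K, z ∈ center ↥K → (z : G) ∈ V := by
    subst hK
    intro z hz
    rw [hV]
    exact hcen z hz
  have hperfK : commutator ↥K = ⊤ := by subst hK; exact hperf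
  refine ⟨hKC, ?_, ?_, ?_⟩
  · obtain ⟨s, hs1, hs2⟩ := S.exists_conj_pair h₁ h₂ h₂.1 ⟨h₁, h₂.2.1.symm, hc.symm⟩
    have hsC : s ∈ C := by
      rw [hC, mem_centralizer_singleton_iff]
      refine mul_inv_eq_iff_eq_mul.1 ?_
      calc s * (d₁ * d₂) * s⁻¹ = (s * d₁ * s⁻¹) * (s * d₂ * s⁻¹) := by group
        _ = d₁ * d₂ := by rw [hs1, hs2, hc.eq]
    refine index_eq_two_iff.2 ⟨⟨s, hsC⟩, fun b => ?_⟩
    have hb : (b : G) * (d₁ * d₂) = (d₁ * d₂) * b :=
      mem_centralizer_singleton_iff.1 (hC ▸ b.2)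
    have hbe : (b * d₁ * (b : G)⁻¹) * (b * d₂ * (b : G)⁻¹) = d₁ * d₂ := by
      calc (b * d₁ * (b : G)⁻¹) * (b * d₂ * (b : G)⁻¹) = b * (d₁ * d₂) * (b : G)⁻¹ := by group
        _ = d₁ * d₂ := by rw [hb, mul_inv_cancel_right]
    have hmemK : ∀ x : G, x ∈ K ↔ x * d₁ * x⁻¹ = d₁ ∧ x * d₂ * x⁻¹ = d₂ := by
      intro x
      constructor
      · exact fun hx => ⟨conj_self_of_commute (hKd hx).1, conj_self_of_commute (hKd hx).2⟩
      · rintro ⟨e1, e2⟩
        rw [hK, mem_centralizer_iff]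
        rintro y (rfl | rfl)
        · exact (mul_inv_eq_iff_eq_mul.1 e1).symm
        · exact (mul_inv_eq_iff_eq_mul.1 e2).symm
    rw [mem_subgroupOf, mem_subgroupOf, hmemK, hmemK, Subgroup.coe_mul]
    have eb : ∀ x : G, b * s * x * ((b : G) * s)⁻¹ = b * (s * x * s⁻¹) * (b : G)⁻¹ := fun x => by
      group
    rw [eb, eb, hs1, hs2]
    have hne : d₁ ≠ d₂ := h₂.2.1.symm
    rcases S.pair_unique (CfsgLib.ThreeTransp.class_conj_mem S.cls _ h₁)
      (CfsgLib.ThreeTransp.class_conj_mem S.cls _ h₂.1) h₁ h₂.1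
      (fun h => hne (mul_left_cancel (mul_right_cancel h))) hne
      ((CfsgLib.ThreeTrans.commute_conj_iff' (b : G) d₁ d₂).2 hc) hc hbe with ⟨e1, e2⟩ | ⟨e1, e2⟩
    · rw [e1, e2]
      exact Or.inr ⟨⟨rfl, rfl⟩, fun h => hne h.1.symm⟩
    · rw [e1, e2]
      exact Or.inl ⟨⟨rfl, rfl⟩, fun h => hne h.1.symm⟩
  · refine le_antisymm ?_ fun v hv => ?_
    · rintro _ ⟨z, hz, rfl⟩
      exact hcenK z hz
    · exact ⟨⟨v, hVK hv⟩, mem_center_iff.2 fun k => Subtype.ext (hVcen v hv k k.2).eq, rfl⟩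
  · refine eq_bot_iff.2 fun x hx => ?_
    obtain ⟨c, rfl⟩ := QuotientGroup.mk_surjective x
    rw [mem_bot, QuotientGroup.eq_one_iff, mem_subgroupOf]
    have hcv : ∀ k : ↥K, (k : G)⁻¹ * (c * k * (c : G)⁻¹) ∈ V := by
      intro k
      have h1 := mem_center_iff.1 hx (QuotientGroup.mk (⟨k, hKC k.2⟩ : ↥C))
      rw [← QuotientGroup.mk_mul, ← QuotientGroup.mk_mul, QuotientGroup.eq, mem_subgroupOf] at h1
      simp only [Subgroup.coe_mul, Subgroup.coe_inv, mul_inv_rev] at h1
      have h2 : (k : G)⁻¹ * (c * k * (c : G)⁻¹) =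
          (c : G) * ((c : G)⁻¹ * (k : G)⁻¹ * (c * k)) * (c : G)⁻¹ := by group
      rw [h2]
      have h3 := hn.conj_mem ⟨_, hKC (hVK h1)⟩ (mem_subgroupOf.2 h1) c
      rw [mem_subgroupOf] at h3
      exact h3
    let θ : ↥K →* ↥V :=
      { toFun := fun k => ⟨(k : G)⁻¹ * (c * k * (c : G)⁻¹), hcv k⟩
        map_one' := by simp
        map_mul' := fun k l => by
          refine Subtype.ext ?_
          show ((k : G) * l)⁻¹ * (c * (k * l) * (c : G)⁻¹) =
            (k : G)⁻¹ * (c * k * (c : G)⁻¹) * ((l : G)⁻¹ * (c * l * (c : G)⁻¹))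
          have e := (hVcen _ (hcv k) _ (inv_mem l.2)).eq
          calc ((k : G) * l)⁻¹ * (c * (k * l) * (c : G)⁻¹)
              = ((l : G)⁻¹ * ((k : G)⁻¹ * (c * k * (c : G)⁻¹))) * (c * l * (c : G)⁻¹) := by group
            _ = _ := by rw [e, mul_assoc] }
    have hθ : ∀ k : ↥K, θ k = 1 := by
      intro k
      have hle : commutator ↥K ≤ θ.ker := by
        rw [_root_.commutator_def, commutator_le]
        intro a _ b _
        rw [MonoidHom.mem_ker, map_commutatorElement, commutatorElement_eq_one_iff_commute]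
        exact Subtype.ext (hVcen _ (θ b).2 _ (hVK (θ a).2)).eq
      exact hle (hperfK ▸ mem_top k)
    have hck : ∀ k : ↥K, Commute (c : G) k := fun k => by
      have h1 : (k : G)⁻¹ * (c * k * (c : G)⁻¹) = 1 := congrArg Subtype.val (hθ k)
      exact mul_inv_eq_iff_eq_mul.1 (inv_mul_eq_one.1 h1).symm
    have hcK : (c : G) ∈ K := by
      rw [hK, mem_centralizer_iff]
      rintro y (rfl | rfl)
      · exact (hck ⟨_, hdK⟩).eq.symm
      · exact (hck ⟨_, huK⟩).eq.symm
    exact hcenK ⟨c, hcK⟩ (mem_center_iff.2 fun k => Subtype.ext (hck k).eq.symm)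

end CfsgLib.FischerPair
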