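import Cfsg.Agent.Lib.FischerPair.Heptad

set_option autoImplicit false

/-! The common centraliser of a commuting pair in type M(23), given the centralisers of members. -/

namespace CfsgLib.FischerPair

open Subgroup
open CfsgLib.ThreeTrans (link mul_self inv_eq conj_self_of_commute)
open CfsgLib.FischerType
open scoped commutatorElement

variable {G : Type*} [Group G] [Finite G] {D : Set G}

theorem conj_mk {d : G} {w : G} (hw : w ∈ link D d) (k : ↥(closure (link D d)))
    (hkw : (k : G) * w * (k : G)⁻¹ ∈ link D d) :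
    toImg D d hkw = QuotientGroup.mk k * toImg D d hw * (QuotientGroup.mk k)⁻¹ := by
  rw [← QuotientGroup.mk_inv, ← QuotientGroup.mk_mul, ← QuotientGroup.mk_mul]
  rfl

/-- The common centraliser of `d` and a neighbour `u`, when `d` is a product of six common
neighbours. -/
theorem pair_of_six (S : Setting D) (hl : HasLines D) {d u : G} (hd : d ∈ D)
    (hu : u ∈ link D d) (SX : Setting (img D d)) (hX : Cfsg.IsOfTypeM22 (Quot D d) (img D d))
    (hA : centralizer ({d} : Set G) ≤ closure (link D d))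
    (hB : ∀ q ∈ img D d, centralizer ({q} : Set (Quot D d)) ≤ closure (link (img D d) q))
    (hsix : ∃ p q r a b c, (∀ x ∈ [p, q, r, a, b, c], x ∈ link D d ∩ link D u) ∧
      d = p * q * r * c * b * a) :
    commutator ↥(centralizer ({d, u} : Set G)) = ⊤ ∧
      (∀ z ∈ center ↥(centralizer ({d, u} : Set G)), (z : G) ∈ closure ({d, u} : Set G)) ∧
      Nonempty (↥(centralizer ({d, u} : Set G)) ⧸ center ↥(centralizer ({d, u} : Set G)) ≃*
        ↥(closure (link (img D d) (toImg D d hu))) ⧸
          center ↥(closure (link (img D d) (toImg D d hu)))) ∧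
      IsSimpleGroup (↥(closure (link (img D d) (toImg D d hu))) ⧸
          center ↥(closure (link (img D d) (toImg D d hu)))) := by
  have hset := S.cls.1
  have hlX := (SX.good_of_typeM22 hX).lines
  have hn := S.noCentral hd (pair_of_typeM22_img hX)
  set q₀ := toImg D d hu with hq₀
  obtain ⟨hqM, ⟨⟨hMperf⟩, hMs⟩, hMcen⟩ := CfsgLib.FischerUnique.link_group_of_typeM22 SX hX
    (toImg_mem hu)
  rw [← hq₀] at hqM hMperf hMs hMcen
  set M := closure (link (img D d) q₀) with hM
  set H := closure (link D d) with hH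
  set W := link D d ∩ link D u with hW
  set K := centralizer ({d, u} : Set G) with hK
  have hKd : ∀ {k : G}, k ∈ K → Commute k d := fun hk => (mem_centralizer_iff.1 hk d (by simp)).symm
  have hKu : ∀ {k : G}, k ∈ K → Commute k u := fun hk => (mem_centralizer_iff.1 hk u (by simp)).symm
  have hKH : K ≤ H := fun k hk => hA (mem_centralizer_singleton_iff.2 (hKd hk).eq)
  have hWK : ∀ {w}, w ∈ W → w ∈ K := by
    intro w hw
    refine mem_centralizer_iff.2 ?_
    rintro x (rfl | rfl)
    · exact hw.1.2.2.eq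
    · exact hw.2.2.2.eq
  have hWle : closure W ≤ K := (closure_le _).2 fun _ => hWK
  have hdL : d ∈ closure W := by
    obtain ⟨p, q, r, a, b, c, hm, he⟩ := hsix
    have m : ∀ {x}, x ∈ [p, q, r, a, b, c] → x ∈ closure W := fun hx => subset_closure (hm _ hx)
    rw [he]
    exact mul_mem (mul_mem (mul_mem (mul_mem (mul_mem (m (by simp)) (m (by simp))) (m (by simp)))
      (m (by simp))) (m (by simp))) (m (by simp))
  -- the map to the image of the link
  let f : ↥K →* Quot D d := (QuotientGroup.mk' (center ↥H)).comp (Subgroup.inclusion hKH)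
  have fW : ∀ {w} (hw : w ∈ W), f ⟨w, hWK hw⟩ = toImg D d hw.1 := fun _ => rfl
  have hq₀K : ∀ k : ↥K, Commute (f k) q₀ := fun k =>
    (show Commute (Subgroup.inclusion hKH k) (⟨u, subset_closure hu⟩ : ↥H) from
      Subtype.ext (hKu k.2).eq).map (QuotientGroup.mk' _)
  have hfM : ∀ k : ↥K, f k ∈ M := fun k =>
    hB q₀ (toImg_mem hu) (mem_centralizer_singleton_iff.2 (hq₀K k).eq)
  let φ : ↥K →* ↥M := f.codRestrict M hfM
  have hlift : ∀ {s}, s ∈ link (img D d) q₀ → ∃ (w : G) (hw : w ∈ W), toImg D d hw.1 = s := by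
    intro s hs
    obtain ⟨w, hw, rfl⟩ := exists_toImg hs.1
    exact ⟨w, ⟨hw, hw.1, fun h => hs.2.1 (by subst h; rfl),
      commute_of_toImg hset hu hw hs.2.2⟩, rfl⟩
  let Lk : Subgroup ↥K := (closure W).subgroupOf K
  have hLf : M ≤ Lk.map f := by
    rw [hM]
    refine (closure_le _).2 fun s hs => ?_
    obtain ⟨w, hw, rfl⟩ := hlift hs
    exact ⟨⟨w, hWK hw⟩, mem_subgroupOf.2 (subset_closure hw), fW hw⟩
  have hker : ∀ k : ↥K, f k = 1 → (k : G) = 1 ∨ (k : G) = d := fun k hk =>
    CfsgLib.FischerUnique.center_link_le S hl hd hu ((QuotientGroup.eq_one_iff _).1 hk)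
  have hKL : ∀ k : ↥K, k ∈ Lk := by
    intro k
    obtain ⟨l, hlk, hlf⟩ := hLf (hfM k)
    have h1 : f (k * l⁻¹) = 1 := by rw [map_mul, map_inv, hlf, mul_inv_cancel]
    have h2 : k * l⁻¹ ∈ Lk := by
      rcases hker _ h1 with h | h
      · exact mem_subgroupOf.2 (h ▸ one_mem _)
      · exact mem_subgroupOf.2 (h ▸ hdL)
    simpa using mul_mem h2 hlk
  have hφ : Function.Surjective φ := by
    rintro ⟨s, hs⟩
    obtain ⟨l, -, hlf⟩ := hLf hs
    exact ⟨l, Subtype.ext hlf⟩
  -- centre
  have hdK : d ∈ K := hWle hdL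
  have huH : u ∈ H := subset_closure hu
  have huK : u ∈ K := mem_centralizer_iff.2 (by
    rintro x (rfl | rfl)
    · exact hu.2.2.eq
    · rfl)
  have hdu1 : (d : G) ∈ closure ({d, u} : Set G) := subset_closure (by simp)
  have hdu2 : (u : G) ∈ closure ({d, u} : Set G) := subset_closure (by simp)
  have hV : ∀ k : ↥K, f k = 1 ∨ f k = q₀ → (k : G) ∈ closure ({d, u} : Set G) := by
    rintro k (h | h)
    · rcases hker k h with h' | h' <;> rw [h']
      · exact one_mem _
      · exact hdu1
    · have h1 : f (k * ⟨u, huK⟩⁻¹) = 1 := by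
        rw [map_mul, map_inv, h]
        exact mul_inv_cancel _
      rcases hker _ h1 with h' | h'
      · have : (k : G) = u := mul_inv_eq_one.1 h'
        rw [this]; exact hdu2
      · have : (k : G) = d * u := mul_inv_eq_iff_eq_mul.1 h'
        rw [this]; exact mul_mem hdu1 hdu2
  obtain ⟨w₀, hw₀⟩ : W.Nonempty := by
    obtain ⟨p, q, r, a, b, c, hm, -⟩ := hsix
    exact ⟨p, hm p (by simp)⟩
  have hwX : toImg D d hw₀.1 ∈ link (img D d) q₀ :=
    ⟨toImg_mem hw₀.1, fun h => hw₀.2.2.1 (eq_of_toImg hset hn hw₀.1 hu h),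
      commute_toImg hu hw₀.1 hw₀.2.2.2⟩
  have hcenM : ∀ k : ↥K, φ k ∈ center ↥M ↔ (k : G) ∈ closure ({d, u} : Set G) := by
    intro k
    constructor
    · intro h
      exact hV k (CfsgLib.FischerUnique.center_link_le SX hlX (toImg_mem hu) hwX h)
    · intro h
      have hle : closure ({d, u} : Set G) ≤ centralizer (K : Set G) := by
        refine (closure_le _).2 ?_
        rintro x (rfl | rfl)
        · exact mem_centralizer_iff.2 fun y hy => (hKd hy).eq
        · exact mem_centralizer_iff.2 fun y hy => (hKu hy).eq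
      refine mem_center_iff.2 fun s => ?_
      obtain ⟨l, rfl⟩ := hφ s
      rw [← map_mul, ← map_mul]
      exact congrArg φ (Subtype.ext (mem_centralizer_iff.1 (hle h) l l.2))
  have hcenK : ∀ k : ↥K, k ∈ center ↥K ↔ (k : G) ∈ closure ({d, u} : Set G) := by
    intro k
    refine ⟨fun h => (hcenM k).1 (mem_center_iff.2 fun s => ?_), fun h => mem_center_iff.2 fun l => ?_⟩
    · obtain ⟨l, rfl⟩ := hφ s
      rw [← map_mul, ← map_mul, mem_center_iff.1 h l]
    · refine Subtype.ext ?_
      have hle : closure ({d, u} : Set G) ≤ centralizer {(l : G)} := by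
        refine (closure_le _).2 ?_
        rintro x (rfl | rfl)
        · exact mem_centralizer_singleton_iff.2 (hKd l.2).eq.symm
        · exact mem_centralizer_singleton_iff.2 (hKu l.2).eq.symm
      exact (mem_centralizer_singleton_iff.1 (hle h)).symm
  have hψ : ((QuotientGroup.mk' (center ↥M)).comp φ).ker = center ↥K := by
    ext k
    rw [MonoidHom.mem_ker, MonoidHom.comp_apply, QuotientGroup.mk'_apply, QuotientGroup.eq_one_iff,
      hcenM, hcenK]
  -- perfectness
  have hperf : commutator ↥K = ⊤ := by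
    set K' := commutator ↥K with hK'
    have hcmem : ∀ x y : ↥K, ⁅x, y⁆ ∈ K' := fun x y => by
      rw [hK', commutator_def]; exact commutator_mem_commutator (mem_top _) (mem_top _)
    have hmapK : K'.map φ = ⊤ := by
      rw [hK', commutator_def, Subgroup.map_commutator, Subgroup.map_top_of_surjective _ hφ,
        ← commutator_def, hMperf]
    have hcase : ∀ k : ↥K, k ∈ K' ∨ (⟨d, hdK⟩ : ↥K)⁻¹ * k ∈ K' := by
      intro k
      obtain ⟨l, hlK, hlf⟩ : φ k ∈ K'.map φ := by rw [hmapK]; exact mem_top _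
      have h1 : f (k * l⁻¹) = 1 := by
        have : f l = f k := congrArg Subtype.val hlf
        rw [map_mul, map_inv, this, mul_inv_cancel]
      rcases hker _ h1 with h | h
      · refine Or.inl ?_
        rwa [show k = l from Subtype.ext (mul_inv_eq_one.1 h)]
      · refine Or.inr ?_
        rw [show k = ⟨d, hdK⟩ * l from Subtype.ext (mul_inv_eq_iff_eq_mul.1 h), inv_mul_cancel_left]
        exact hlK
    have hclass : ∀ {w v} (hw : w ∈ W) (hv : v ∈ W),
        (QuotientGroup.mk (⟨v, hWK hv⟩ : ↥K) : ↥K ⧸ K') = QuotientGroup.mk (⟨w, hWK hw⟩ : ↥K) := by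
      intro w v hw hv
      have hX1 : ∀ {x} (hx : x ∈ W), toImg D d hx.1 ∈ link (img D d) q₀ := fun hx =>
        ⟨toImg_mem hx.1, fun h => hx.2.2.1 (eq_of_toImg hset hn hx.1 hu h),
          commute_toImg hu hx.1 hx.2.2.2⟩
      obtain ⟨m, hm, hmw⟩ := SX.exists_conj_link (toImg_mem hu) (hX1 hw) (hX1 hv)
      obtain ⟨k, hk⟩ := hφ ⟨m, hm⟩
      have hkm : f k = m := congrArg Subtype.val hk
      have hkw : (k : G) * w * (k : G)⁻¹ ∈ link D d := by
        have := link_conj_mem S.cls (k : G) hw.1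
        rwa [conj_self_of_commute (hKd k.2)] at this
      have hkv : (k : G) * w * (k : G)⁻¹ = v := by
        refine eq_of_toImg hset hn hkw hv.1 ?_
        refine (conj_mk hw.1 (Subgroup.inclusion hKH k) hkw).trans ?_
        show f k * _ * (f k)⁻¹ = _
        rw [hkm, hmw]
      rw [QuotientGroup.eq]
      have e1 : (⟨v, hWK hv⟩ : ↥K)⁻¹ * ⟨w, hWK hw⟩ = ⁅k, (⟨w, hWK hw⟩ : ↥K)⁆ := by
        refine Subtype.ext ?_
        simp only [commutatorElement_def, Subgroup.coe_mul, Subgroup.coe_inv]
        rw [← hkv]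
        simp only [mul_inv_rev, inv_inv, inv_eq hset hw.1.1, mul_assoc]
      rw [e1]
      exact hcmem _ _
    have hdK' : (⟨d, hdK⟩ : ↥K) ∈ K' := by
      obtain ⟨p, q, r, a, b, c, hm, he⟩ := hsix
      rw [show (⟨d, hdK⟩ : ↥K) = ⟨p, hWK (hm p (by simp))⟩ * ⟨q, hWK (hm q (by simp))⟩ *
        ⟨r, hWK (hm r (by simp))⟩ * ⟨c, hWK (hm c (by simp))⟩ * ⟨b, hWK (hm b (by simp))⟩ *
        ⟨a, hWK (hm a (by simp))⟩ from Subtype.ext he, ← QuotientGroup.eq_one_iff]
      simp only [QuotientGroup.mk_mul]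
      rw [hclass hw₀ (hm p (by simp)), hclass hw₀ (hm q (by simp)), hclass hw₀ (hm r (by simp)),
        hclass hw₀ (hm c (by simp)), hclass hw₀ (hm b (by simp)), hclass hw₀ (hm a (by simp))]
      have h2 : (QuotientGroup.mk (⟨w₀, hWK hw₀⟩ : ↥K) : ↥K ⧸ K') *
          QuotientGroup.mk (⟨w₀, hWK hw₀⟩ : ↥K) = 1 := by
        rw [← QuotientGroup.mk_mul, ← QuotientGroup.mk_one]
        exact congrArg _ (Subtype.ext (mul_self hset hw₀.1.1))
      simp only [h2, one_mul]
    refine top_le_iff.1 fun k _ => ?_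
    rcases hcase k with h | h
    · exact h
    · have := mul_mem hdK' h
      rwa [mul_inv_cancel_left] at this
  have hsurj : Function.Surjective ((QuotientGroup.mk' (center ↥M)).comp φ) :=
    (QuotientGroup.mk'_surjective _).comp hφ
  exact ⟨hperf, fun z hz => (hcenK z).1 hz,
    ⟨(QuotientGroup.quotientMulEquivOfEq hψ.symm).trans
      (QuotientGroup.quotientKerEquivOfSurjective _ hsurj)⟩, hMs⟩

end CfsgLib.FischerPair
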