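import Cfsg.Agent.Lib.FischerUnique.Simple

set_option autoImplicit false

/-! In type M(22): three pairwise commuting members with two non-commuting common neighbours. -/

namespace CfsgLib.FischerPair

open Subgroup
open CfsgLib.ThreeTrans (link)
open CfsgLib.FischerType
open CfsgLib.Classical.Herm HermSpace CfsgLib.UnitaryTransv

/-- Two commuting transvections with two non-commuting common neighbours. -/
theorem exists_four_tv {F : Type*} [Field F] [Fintype F] (hF : Fintype.card F = 2 ^ 2) :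
    ∃ a b z z', a ∈ U6.tvSet hF (n := 6) ∧ b ∈ U6.tvSet hF (n := 6) ∧ z ∈ U6.tvSet hF (n := 6) ∧
      z' ∈ U6.tvSet hF (n := 6) ∧ a ≠ b ∧ Commute a b ∧ Commute z a ∧ Commute z b ∧ Commute z' a ∧
      Commute z' b ∧ ¬ Commute z z' := by
  obtain ⟨w, hw0, hw1⟩ := U6.exists_not_zero_one hF
  have h2 := two_eq_zero hF
  have h1 : (1 : F) + 1 = 0 := add_self_zero hF 1
  have hw3 := CfsgLib.UnitaryTransv.pow_three hF hw0
  set v : Fin 6 → F := ![1, 1, 0, 0, 0, 0] with hvdef
  set u : Fin 6 → F := ![0, 0, 1, 1, 0, 0] with hudef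
  set x : Fin 6 → F := ![0, 0, 0, 0, 1, 1] with hxdef
  set x' : Fin 6 → F := ![0, 0, 0, 0, 1, w] with hx'def
  set y : Fin 6 → F := ![1, 0, 0, 0, 1, 0] with hydef
  have hv : (stdHerm hF 6).h v v = 0 := by rw [U6.h_six]; simp [hvdef, h1]
  have hu : (stdHerm hF 6).h u u = 0 := by rw [U6.h_six]; simp [hudef, h1]
  have hx : (stdHerm hF 6).h x x = 0 := by rw [U6.h_six]; simp [hxdef, h1]
  have hy : (stdHerm hF 6).h y y = 0 := by rw [U6.h_six]; simp [hydef, h1]
  have hx' : (stdHerm hF 6).h x' x' = 0 := by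
    rw [U6.h_six]; simp [hx'def]
    linear_combination hw3 + h2
  have v0 : v ≠ 0 := fun h => by simpa [hvdef] using congrFun h 0
  have u0 : u ≠ 0 := fun h => by simpa [hudef] using congrFun h 2
  have x0 : x ≠ 0 := fun h => by simpa [hxdef] using congrFun h 4
  have x'0 : x' ≠ 0 := fun h => by simpa [hx'def] using congrFun h 4
  have y0 : y ≠ 0 := fun h => by simpa [hydef] using congrFun h 0
  refine ⟨U6.ptv hF v hv, U6.ptv hF u hu, U6.ptv hF x hx, U6.ptv hF x' hx', U6.ptv_mem hF hv v0,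
    U6.ptv_mem hF hu u0, U6.ptv_mem hF hx x0, U6.ptv_mem hF hx' x'0, ?_, ?_, ?_, ?_, ?_, ?_, ?_⟩
  · exact (U6.ne_ptv hF hu hv hy y0 (by rw [U6.h_six]; simp [hydef, hudef])
      (by rw [U6.h_six]; simp [hydef, hvdef])).symm
  · exact U6.commute_ptv hF hv hu (by rw [U6.h_six]; simp [hvdef, hudef])
  · exact U6.commute_ptv hF hx hv (by rw [U6.h_six]; simp [hvdef, hxdef])
  · exact U6.commute_ptv hF hx hu (by rw [U6.h_six]; simp [hudef, hxdef])
  · exact U6.commute_ptv hF hx' hv (by rw [U6.h_six]; simp [hvdef, hx'def])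
  · exact U6.commute_ptv hF hx' hu (by rw [U6.h_six]; simp [hudef, hx'def])
  · intro h
    have e := U6.orth_of_commute_ptv hF hx hx' x'0 h
    rw [U6.h_six] at e
    simp [hx'def, hxdef] at e
    exact hw1 (by linear_combination e - h2)

variable {G : Type*} [Group G] [Finite G] {D : Set G} (S : Setting D)

include S

/-- Three pairwise commuting members with two non-commuting common neighbours. -/
theorem exists_witness (h : Cfsg.IsOfTypeM22 G D) :
    ∃ a b c z z', a ∈ D ∧ b ∈ link D a ∧ c ∈ link D a ∧ c ∈ link D b ∧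
      z ∈ link D a ∩ link D b ∩ link D c ∧ z' ∈ link D a ∩ link D b ∩ link D c ∧ ¬ Commute z z' := by
  obtain ⟨d, hd, hpair, SX, F, i1, i2, hF, ⟨e⟩⟩ := CfsgLib.FischerUnique.exists_data_of_typeM22 S h
  have hF' : Fintype.card F = 2 ^ 2 := hF.trans (by norm_num)
  have hE := U6.eq_tv_class hF' (class_image e (S.imgClass hd hpair))
  obtain ⟨A, B, Z, Z', hA, hB, hZ, hZ', nAB, cAB, cZA, cZB, cZA', cZB', nZ⟩ := exists_four_tv hF'
  have up : ∀ {q}, q ∈ U6.tvSet hF' (n := 6) →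
      ∃ (w : G) (hw : w ∈ link D d), e (toImg D d hw) = q := by
    intro q hq
    rw [U6.tvSet, ← hE] at hq
    obtain ⟨r, hr, rfl⟩ := hq
    obtain ⟨w, hw, rfl⟩ := exists_toImg hr
    exact ⟨w, hw, rfl⟩
  obtain ⟨a, ha, rfl⟩ := up hA
  obtain ⟨b, hb, rfl⟩ := up hB
  obtain ⟨z, hz, rfl⟩ := up hZ
  obtain ⟨z', hz', rfl⟩ := up hZ'
  have cback : ∀ {u v} (hu : u ∈ link D d) (hv : v ∈ link D d),
      Commute (e (toImg D d hu)) (e (toImg D d hv)) → Commute u v := fun hu hv h =>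
    commute_of_toImg S.cls.1 hu hv ((commute_map_iff e.injective).1 h)
  have hzz : ¬ Commute z z' := fun hc => nZ ((commute_toImg hz hz' hc).map e)
  have hne : ∀ {v}, v ∈ link D d → Commute z v → z' ≠ v := fun _ hc h => hzz (h ▸ hc)
  have hne' : ∀ {v}, v ∈ link D d → Commute z' v → z ≠ v := fun _ hc h => hzz (h ▸ hc.symm)
  refine ⟨d, a, b, z, z', hd, ha, hb, ⟨hb.1, fun h => nAB (by subst h; rfl), cback ha hb cAB⟩,
    ⟨⟨hz, hz.1, hne' ha (cback hz' ha cZA'), (cback hz ha cZA).symm⟩,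
      hz.1, hne' hb (cback hz' hb cZB'), (cback hz hb cZB).symm⟩,
    ⟨⟨hz', hz'.1, hne ha (cback hz ha cZA), (cback hz' ha cZA').symm⟩,
      hz'.1, hne hb (cback hz hb cZB), (cback hz' hb cZB').symm⟩, hzz⟩

end CfsgLib.FischerPair
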